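import Mathlib
import Cfsg.Prelude.Def_ChevStructure
import Cfsg.Prelude.Def_LieTwisted
import Cfsg.Agent.Lib.helper23.TD4V.Defs
import Cfsg.Agent.Lib.helper8.ChevTwD4O

/-!
# Project TDM = S2192 (designer helper8): `G₂(q)` (the `F_q`-rational points) is maximal in `³D₄(q)`.
Definitions.

`K` is the field with `q³` elements, `G = twistedD4 K q ≤ GL chevD4.Idx K`, `k = {c | c ^ q = c}` the subfield with `q`
elements.  Everything is written with the root elements of helper23's project TD4V (`Cfsg.Agent.Lib.helper23.TD4V`):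
`X r t = x_r(t)` (roots of `chevD4`, index `r < 24`), the twisted root elements `Xa q t`, `Xab q t`, `X2ab q t`, `Xma q t`
(short roots `a`, `a+b`, `2a+b`, `-a` of the twisted root system of type `G₂`; parameters in `K`), the long root elements
`X 14 c` (`b`), `X 22 c` (`3a+b`), `X 23 c` (`3a+2b = ρ`), `X 9 c`, `X 1 c`, `X 0 c` (their negatives; parameters in `k`),
`nb = n_b`, `nJ = n_a`.
-/

set_option autoImplicit false

namespace Cfsg.Agent.Lib.helper8.TDM

open Cfsg.Lie Cfsg.Lie.ChevalleyDatum Matrix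
open Cfsg.Agent.Lib.helper8 Cfsg.Agent.Lib.helper8.TD4
open Cfsg.Agent.Lib.helper23.TD4V

universe u

section Defs

variable {K : Type u} [Field K]

/-- all matrix entries lie in the subfield with `q` elements -/
def Rat (q : ℕ) (g : GG K) : Prop :=
  ∀ i j : chevD4.Idx, ((g : Matrix chevD4.Idx chevD4.Idx K) i j) ^ q = (g : Matrix chevD4.Idx chevD4.Idx K) i j

variable (K) in
/-- `B¹ = B ∩ G` -/
def B1 (q : ℕ) : Subgroup (GG K) := chevD4.borelSubgroup K ⊓ twistedD4 K q

variable (K) in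
/-- `U¹ = U ∩ G` -/
def U1 (q : ℕ) : Subgroup (GG K) := chevD4.posUnipotent K ⊓ twistedD4 K q

variable (K) in
/-- `T¹ = H ∩ G` (the torus) -/
def T1 (q : ℕ) : Subgroup (GG K) := chevD4.diagonalSubgroup K ⊓ twistedD4 K q

/-- the normal form of the elements of `U¹`: `x_a(t₁) x_b(c₁) x_{a+b}(t₂) x_{2a+b}(t₃) x_{3a+b}(c₂) x_{3a+2b}(c₃)` -/
def NFU (q : ℕ) (t1 c1 t2 t3 c2 c3 : K) : GG K :=
  Xa q t1 * X 14 c1 * Xab q t2 * X2ab q t3 * X 22 c2 * X 23 c3

/-- the short root elements `x_a(t)` of a subgroup `H` have rational parameters -/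
def RootRat (q : ℕ) (H : Subgroup (GG K)) : Prop := ∀ t : K, Xa q t ∈ H → t ^ q = t

/-- `g` conjugates the long root group `X_ρ(k)` onto `b X_r(k) b⁻¹` (linearly in the parameter) -/
def Cj (q : ℕ) (g b : GG K) (r : ℕ) : Prop :=
  ∃ κ : K, κ ≠ 0 ∧ κ ^ q = κ ∧ ∀ c : K, c ^ q = c → g * X 23 c * g⁻¹ = b * X r (κ * c) * b⁻¹

/-- The data of S2192: `M` = the rational points of `G = ³D₄(q)`, `M ≤ H ≤ G`. -/
structure Ctx [Fintype K] (q : ℕ) (M H : Subgroup (GG K)) : Prop where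
  hq : IsPrimePow q
  hK : Fintype.card K = q ^ 3
  hM : ∀ g : GG K, g ∈ M ↔ g ∈ twistedD4 K q ∧ Rat q g
  hMH : M ≤ H
  hHG : H ≤ twistedD4 K q

end Defs

end Cfsg.Agent.Lib.helper8.TDM
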